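import Mathlib
import Cfsg.Prelude.Def_GeometricClasses

/-!
# Project ASCHOE (helper55): shared vocabulary

The five even-dimensional orthogonal BHR rows S5826 (Ω₈⁻) S5847 (Ω₁₀⁺) S5850 (Ω₁₀⁻) S5871 (Ω₁₂⁺) S5874 (Ω₁₂⁻):
"a maximal subgroup of `omegaGL Q` is one of the listed stabilisers (met with `omegaGL Q`) or residual".
Only definitions here: the possible outcomes `H ≤ X` of the form-aware Aschbacher analysis of a subgroup
`H` of the isometry group of a non-degenerate quadratic form `Q` on `F^n`.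
-/

set_option autoImplicit false

namespace Cfsg.Agent.Lib.Helper55.Oe

open Cfsg Cfsg.Geo
open scoped MatrixGroups Matrix Kronecker

variable {n : ℕ} {F : Type*} [Field F]

/-- `H` fixes a non-zero totally singular subspace. -/
def OutTS (Q : (Fin n → F) → F) (H : Subgroup (GL (Fin n) F)) : Prop :=
  ∃ W : Submodule F (Fin n → F), W ≠ ⊥ ∧ IsTotallySingularQuad Q W ∧ H ≤ subspaceStabilizer W

/-- `H` fixes a proper non-zero subspace on which the polar form is non-degenerate. -/
def OutND (Q : (Fin n → F) → F) (H : Subgroup (GL (Fin n) F)) : Prop :=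
  ∃ W : Submodule F (Fin n → F), W ≠ ⊥ ∧ W ≠ ⊤ ∧ IsNondegenerateOn (QuadraticMap.polar Q) W ∧
    H ≤ subspaceStabilizer W

/-- characteristic 2: `H` fixes the line spanned by a non-singular vector. -/
def OutNS (Q : (Fin n → F) → F) (H : Subgroup (GL (Fin n) F)) : Prop :=
  (2 : F) = 0 ∧ ∃ v : Fin n → F, Q v ≠ 0 ∧ H ≤ subspaceStabilizer (Submodule.span F {v})

/-- `H` permutes the members of a decomposition into `t` pairwise orthogonal, pairwise isometric
non-degenerate `m`-spaces. -/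
def OutDec (Q : (Fin n → F) → F) (H : Subgroup (GL (Fin n) F)) : Prop :=
  ∃ (t m : ℕ) (D : Fin t → Submodule F (Fin n → F)), IsOrthogonalMDecomposition Q m D ∧
    H ≤ decompositionStabilizer D

/-- `H` permutes two complementary totally singular subspaces (of dimension `n / 2`). -/
def OutTSPair (Q : (Fin n → F) → F) (H : Subgroup (GL (Fin n) F)) : Prop :=
  ∃ (m : ℕ) (D : Fin 2 → Submodule F (Fin n → F)), IsMDecomposition m D ∧
    (∀ i, IsTotallySingularQuad Q (D i)) ∧ H ≤ decompositionStabilizer D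

/-- `H` normalises a field subalgebra of prime degree `r`, self-adjoint for the polar form. -/
def OutFieldSA (Q : (Fin n → F) → F) (H : Subgroup (GL (Fin n) F)) : Prop :=
  ∃ (r : ℕ) (K : Subalgebra F (Matrix (Fin n) (Fin n) F)), r.Prime ∧ IsFieldSubalgebra r K ∧
    IsSelfAdjointFor (QuadraticMap.polar Q) K ∧ H ≤ subalgebraNormalizer K

/-- `H` normalises a field subalgebra of degree 2, closed under adjoints but not self-adjoint
(unitary type), acting by similarities of `Q`. -/
def OutFieldU (Q : (Fin n → F) → F) (H : Subgroup (GL (Fin n) F)) : Prop :=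
  ∃ K : Subalgebra F (Matrix (Fin n) (Fin n) F), IsFieldSubalgebra 2 K ∧
    IsAdjointClosedFor (QuadraticMap.polar Q) K ∧ ¬ IsSelfAdjointFor (QuadraticMap.polar Q) K ∧
    (∀ k ∈ K, ∃ c : F, ∀ v : Fin n → F, Q (Matrix.mulVec k v) = c * Q v) ∧
    H ≤ subalgebraNormalizer K

/-- `H` stabilises a tensor decomposition of the polar form into two symmetric forms
(characteristic not 2). -/
def OutTensorSym (Q : (Fin n → F) → F) (H : Subgroup (GL (Fin n) F)) : Prop :=
  (2 : F) ≠ 0 ∧ ∃ (n₁ n₂ : ℕ) (e : Fin n ≃ Fin n₁ × Fin n₂) (P : GL (Fin n) F)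
    (f₁ : (Fin n₁ → F) → (Fin n₁ → F) → F) (f₂ : (Fin n₂ → F) → (Fin n₂ → F) → F),
    2 ≤ n₁ ∧ 2 ≤ n₂ ∧ IsSymmetricForm f₁ ∧ IsSymmetricForm f₂ ∧
    IsTensorFormStructure id (QuadraticMap.polar Q) f₁ f₂ e P ∧
    H ≤ tensorProductSubgroup n₁ n₂ e P

/-- `H` stabilises a tensor decomposition of the polar form into two alternating forms, `Q`
vanishing on the pure tensors. -/
def OutTensorAlt (Q : (Fin n → F) → F) (H : Subgroup (GL (Fin n) F)) : Prop :=
  ∃ (n₁ n₂ : ℕ) (e : Fin n ≃ Fin n₁ × Fin n₂) (P : GL (Fin n) F)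
    (f₁ : (Fin n₁ → F) → (Fin n₁ → F) → F) (f₂ : (Fin n₂ → F) → (Fin n₂ → F) → F),
    2 ≤ n₁ ∧ 2 ≤ n₂ ∧ IsSymplecticForm f₁ ∧ IsSymplecticForm f₂ ∧
    IsTensorFormStructure id (QuadraticMap.polar Q) f₁ f₂ e P ∧
    (∀ (x₁ : Fin n₁ → F) (x₂ : Fin n₂ → F),
      Q (Matrix.mulVec (P : Matrix (Fin n) (Fin n) F)
        ((fun a : Fin n₁ × Fin n₂ => x₁ a.1 * x₂ a.2) ∘ e)) = 0) ∧
    H ≤ tensorProductSubgroup n₁ n₂ e P

/-- `H` lies in a subfield group of prime index `r` whose `F₀`-structure carries a non-zero multiple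
of `Q`. -/
def OutSubfield [Fintype F] (Q : (Fin n → F) → F) (H : Subgroup (GL (Fin n) F)) : Prop :=
  ∃ (F₀ : Subfield F) (r : ℕ) (P : GL (Fin n) F) (ζ : F), r.Prime ∧
    Fintype.card F = Nat.card F₀ ^ r ∧ ζ ≠ 0 ∧
    IsQuadFormRationalStructure (fun v : Fin n → F => ζ * Q v) F₀ P ∧ H ≤ subfieldSubgroup F₀ P

/-- The outcome list of the form-aware Aschbacher analysis for `n ∈ {8, 10, 12}` (classes 6 and 7 only
occur for `n = 8` and force plus type). -/
def GeoOE [Fintype F] (Q : (Fin n → F) → F) (H : Subgroup (GL (Fin n) F)) : Prop :=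
  OutTS Q H ∨ OutND Q H ∨ OutNS Q H ∨ OutDec Q H ∨ OutTSPair Q H ∨ OutFieldSA Q H ∨ OutFieldU Q H ∨
  OutTensorSym Q H ∨ OutTensorAlt Q H ∨ OutSubfield Q H ∨ (n = 8 ∧ IsPlusTypeOn Q ⊤) ∨
  InOrthogonalResidualClass H

/-- `NAI` restricted to subgroups of the isometry group: every subgroup of the isometry group of `Q`
normalised by `H` is scalar or absolutely irreducible. -/
def NAIq (Q : (Fin n → F) → F) (H : Subgroup (GL (Fin n) F)) : Prop :=
  ∀ N : Subgroup (GL (Fin n) F), N ≤ isometryGroup F Q → (∀ h ∈ H, ∀ x ∈ N, h * x * h⁻¹ ∈ N) →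
    N ≤ scalars (Fin n) F ∨ ActsAbsolutelyIrreducibly (matrixSet N)

/-- The orthogonal complement of a subspace for the polar form of `Q` (as a set-defined submodule; needs
bilinearity of the polar form to be a submodule, so it is given as the span of the obvious set - for a
non-degenerate quadratic form the span is the set itself). -/
def perp (Q : (Fin n → F) → F) (W : Submodule F (Fin n → F)) : Submodule F (Fin n → F) :=
  Submodule.span F {v | ∀ w ∈ W, QuadraticMap.polar Q w v = 0}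

end Cfsg.Agent.Lib.Helper55.Oe
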