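import Mathlib
import Cfsg.Prelude.Def_GeometricClasses
import Cfsg.Agent.Lib.Helper94.SympBridge2
import Cfsg.Agent.Lib.Helper94.SympBridge3
import Cfsg.Agent.Lib.Helper94.OrthBridge
import Cfsg.Agent.Lib.Helper94.OrthPlane2
import Cfsg.Agent.Lib.Helper94.OrthSingular
import Cfsg.Agent.Lib.Helper94.OrthSingular2

/-!
# Project ASCHOE (helper55): row kit and three non-maximality results in general dimension

`eq_inf_of_isMaximalIn`, `false_of_exists_between` : how a maximal subgroup of `omegaGL Q` lying in a class member `X`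
is identified with `X ⊓ omegaGL Q` (when `X` does not contain `omegaGL Q`) or excluded (when `X ⊓ omegaGL Q` is
not maximal).  The three `exists_between_*` are the proofs of S5690 / S5686 / S5698 with the dimension bound `13 ≤ n`
replaced by what the underlying library lemmas of helper94 need.
-/

set_option autoImplicit false

namespace Cfsg.Agent.Lib.Helper55.Oe

open Cfsg Cfsg.Geo
open scoped MatrixGroups Matrix

variable {n : ℕ} {F : Type*} [Field F]

theorem omegaGL_le_isometryGroup (Q : (Fin n → F) → F) : omegaGL Q ≤ isometryGroup F Q := by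
  rintro _ ⟨g, -, rfl⟩
  exact g.2

/-- a maximal subgroup of `Ω` lying in `X`, where `X` does not contain `Ω`, is `X ⊓ Ω` -/
theorem eq_inf_of_isMaximalIn {G : Type*} [Group G] {Ω H X : Subgroup G} (hH : IsMaximalIn Ω H) (hX : H ≤ X)
    (hprop : ¬ Ω ≤ X) : H = X ⊓ Ω := by
  rcases hH.2 (X ⊓ Ω) (le_inf hX hH.1.le) inf_le_right with h | h
  · exact h.symm
  · exact absurd (h ▸ inf_le_left : Ω ≤ X) hprop

/-- a maximal subgroup of `Ω` cannot lie in `X` when `X ⊓ Ω` is not maximal in `Ω` -/
theorem false_of_exists_between {G : Type*} [Group G] {Ω H X : Subgroup G} (hH : IsMaximalIn Ω H) (hX : H ≤ X)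
    (hK : ∃ K : Subgroup G, X ⊓ Ω < K ∧ K < Ω) : False := by
  obtain ⟨K, h1, h2⟩ := hK
  have hHK : H ≤ K := (le_inf hX hH.1.le).trans h1.le
  rcases hH.2 K hHK h2.le with h | h
  · have : X ⊓ Ω < H := h ▸ h1
    exact absurd (le_inf hX hH.1.le) (not_le_of_gt this)
  · exact absurd h (ne_of_lt h2)

variable [Fintype F]

/-- ASCHOE-[E-PLANE] (S5690 in dimension `≥ 5`): over a field with at most three elements the stabiliser of a
plus-type plane is not maximal in `Ω`. -/
theorem exists_between_plus_plane {Q : (Fin n → F) → F} (hQ : IsNondegenerateQuadraticForm Q) (hn : 5 ≤ n)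
    (hq : Fintype.card F ≤ 3) (W : Submodule F (Fin n → F)) (hdim : Module.finrank F W = 2)
    (hW : IsNondegenerateOn (QuadraticMap.polar Q) W) (hWp : IsPlusTypeOn Q W) :
    ∃ K : Subgroup (GL (Fin n) F), subspaceStabilizer W ⊓ omegaGL Q < K ∧ K < omegaGL Q := by
  classical
  obtain ⟨e, f, hWef, he, hf, hef⟩ := Cfsg.Agent.Lib.Helper94.exists_hyp_basis hQ W hdim hW hWp
  have hD := Cfsg.Agent.Lib.Helper94.quadData_polarBilin hQ
  have hnd := Cfsg.Agent.Lib.Helper94.nondeg_polarBilin hQ
  have hfr : Module.finrank F (Fin n → F) = n := by simp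
  have hdim5 : 5 ≤ Module.finrank F (Fin n → F) := by omega
  apply Cfsg.Agent.Lib.Helper94.exists_between_of_map (Cfsg.Agent.Lib.Helper94.glEquiv (Fin n) F)
  rw [Cfsg.Agent.Lib.Helper94.map_inf_equiv, Cfsg.Agent.Lib.Helper94.map_subspaceStabilizer,
    Cfsg.Agent.Lib.Helper94.map_omegaGL, hWef]
  have h1 : 1 < Fintype.card F := Fintype.one_lt_card
  have hcard : Fintype.card F = 2 ∨ Fintype.card F = 3 := by omega
  rcases hcard with h2 | h3
  · exact hD.exists_between_plane2 hnd h2 hdim5 he hf hef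
  · exact hD.exists_between_plane3 hnd h3 hdim5 he hf hef

/-- ASCHOE-[E-TS-SUBMAX] (S5686 in dimension `≥ 6`): in plus type the stabiliser of a totally singular subspace of
dimension `n/2 - 1` is not maximal in `Ω`. -/
theorem exists_between_submax_singular {Q : (Fin n → F) → F} (hQ : IsNondegenerateQuadraticForm Q) (hn : 6 ≤ n)
    (hplus : IsPlusTypeOn Q ⊤) (W : Submodule F (Fin n → F)) (hW : IsTotallySingularQuad Q W)
    (hdim : 2 * (Module.finrank F W + 1) = n) :
    ∃ K : Subgroup (GL (Fin n) F), subspaceStabilizer W ⊓ omegaGL Q < K ∧ K < omegaGL Q := by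
  classical
  have hD' := Cfsg.Agent.Lib.Helper94.quadData_polarBilin hQ
  have hnd := Cfsg.Agent.Lib.Helper94.nondeg_polarBilin hQ
  have hfr : Module.finrank F (Fin n → F) = n := Module.finrank_fin_fun F
  have hF : (∀ a b : F, ∃ x : F, x ≠ a ∧ x ≠ b) ∨ Module.finrank F (Fin n → F) ≠ 4 := by
    right
    rw [hfr]
    omega
  obtain ⟨U', -, hU'ts, hU'dim⟩ := hplus
  rw [finrank_top, hfr] at hU'dim
  apply Cfsg.Agent.Lib.Helper94.exists_between_of_map (Cfsg.Agent.Lib.Helper94.glEquiv (Fin n) F)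
  rw [Cfsg.Agent.Lib.Helper94.map_inf_equiv, Cfsg.Agent.Lib.Helper94.map_subspaceStabilizer,
    Cfsg.Agent.Lib.Helper94.map_omegaGL]
  exact hD'.exists_between_submax_singular hnd hF (k := Module.finrank F W + 1) (by omega)
    (by rw [hfr]; omega) U' hU'ts (by omega) W hW rfl

/-- ASCHOE-[E-TSPAIR-ODD] (S5698 in dimension `≥ 6`): for `n/2` odd the stabiliser of a pair of complementary
totally singular `n/2`-spaces is not maximal in `Ω`. -/
theorem exists_between_singular_pair {Q : (Fin n → F) → F} (hQ : IsNondegenerateQuadraticForm Q) (hn : 6 ≤ n)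
    (k : ℕ) (hk : 2 * k = n) (hko : Odd k) (D : Fin 2 → Submodule F (Fin n → F)) (hD : IsMDecomposition k D)
    (hts : ∀ i, IsTotallySingularQuad Q (D i)) :
    ∃ K : Subgroup (GL (Fin n) F), decompositionStabilizer D ⊓ omegaGL Q < K ∧ K < omegaGL Q := by
  classical
  have hD' := Cfsg.Agent.Lib.Helper94.quadData_polarBilin hQ
  have hnd := Cfsg.Agent.Lib.Helper94.nondeg_polarBilin hQ
  have hF : (∀ a b : F, ∃ x : F, x ≠ a ∧ x ≠ b) ∨ Module.finrank F (Fin n → F) ≠ 4 := by
    right
    rw [Module.finrank_fin_fun]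
    omega
  have hinf : D 0 ⊓ D 1 = ⊥ := by
    have := hD.indep.pairwiseDisjoint (show (0 : Fin 2) ≠ 1 by decide)
    exact disjoint_iff.1 this
  have hsup : D 0 ⊔ D 1 = ⊤ := by
    rw [← hD.iSup_eq_top]
    apply le_antisymm
    · exact sup_le (le_iSup D 0) (le_iSup D 1)
    · apply iSup_le
      intro i
      fin_cases i
      · exact le_sup_left
      · exact le_sup_right
  apply Cfsg.Agent.Lib.Helper94.exists_between_of_map (Cfsg.Agent.Lib.Helper94.glEquiv (Fin n) F)
  rw [Cfsg.Agent.Lib.Helper94.map_inf_equiv, Cfsg.Agent.Lib.Helper94.map_decompositionStabilizer,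
    Cfsg.Agent.Lib.Helper94.map_omegaGL]
  exact hD'.exists_between_two_singular hnd hF hko (by omega) D hD.finrank_eq hts hinf hsup

end Cfsg.Agent.Lib.Helper55.Oe
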