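import Mathlib
import Cfsg.Prelude.Def_GeometricClasses
import Cfsg.Agent.Lib.Helper99.AschDefs
import Cfsg.Agent.Lib.Helper99.AschUtil2
import Cfsg.Agent.Lib.Helper99.AschUtil3
import Cfsg.Agent.Lib.Helper66.AschSS
import Cfsg.Agent.Lib.Helper51.AschField
import Cfsg.Agent.Lib.Helper51.AschNF
import Cfsg.Agent.Lib.Helper47.AschKronNormFinal
import Cfsg.Agent.Lib.Helper37.Asch.FormKit
import Cfsg.Agent.Lib.Helper37.Asch.FormClifford
import Cfsg.Agent.Lib.Helper55.Oe.Defs
import Cfsg.Agent.Lib.Helper36.OeCDec
import Cfsg.Agent.Lib.Helper39.OeCFieldFinal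
import Cfsg.Agent.Lib.Helper6.OeCTensor

/-!
# Project ASCHOE, Part I: an irreducible subgroup of the isometry group of a non-degenerate quadratic form lies in a
geometric class, or every subgroup of the isometry group it normalises is scalar or absolutely irreducible.
-/

set_option autoImplicit false

namespace Cfsg.Agent.Lib.Helper55.Oe

open Cfsg Cfsg.Geo Cfsg.Agent.Lib.Helper99.Asch Cfsg.Agent.Lib.Helper37.Asch Cfsg.Agent.Lib.Helper99.AschUtil
open scoped MatrixGroups Matrix Kronecker

variable {n : ℕ} {F : Type*} [Field F] [Fintype F]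

omit [Fintype F] in
/-- isometries of `Q` are similarities of its polar form -/
theorem isometryGroup_le_similarityGroup (Q : (Fin n → F) → F) :
    isometryGroup F Q ≤ similarityGroup (QuadraticMap.polar Q) := by
  intro g hg
  refine ⟨1, fun u v => ?_⟩
  have h : ∀ w : Fin n → F, Q ((g : Matrix (Fin n) (Fin n) F) *ᵥ w) = Q w := fun w => hg w w
  simp only [QuadraticMap.polar, Units.val_one, one_mul]
  rw [← Matrix.mulVec_add, h, h, h]

omit [Fintype F] in
theorem polar_symm (Q : (Fin n → F) → F) (u v : Fin n → F) :
    QuadraticMap.polar Q u v = QuadraticMap.polar Q v u :=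
  QuadraticMap.polar_comm Q u v

/-- ASCHOE-[PART1] -/
theorem partI_oe {Q : (Fin n → F) → F} (hQ : IsNondegenerateQuadraticForm Q) (hn : 4 ≤ n)
    {H : Subgroup (GL (Fin n) F)} (hH : H ≤ isometryGroup F Q) (hirr : ActsIrreducibly (matrixSet H)) :
    GeoOE Q H ∨ NAIq Q H := by
  by_cases hG : GeoOE Q H
  · exact Or.inl hG
  right
  intro N hNI hnrm'
  have hnrm : Nrm H N := hnrm'
  have hss := semisimple_of_normalized H N hirr hnrm
  have hf : IsSesqForm (RingEquiv.refl F) (QuadraticMap.polar Q) := isSesq_of_bilinear hQ.polar_bilinear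
  have hrefl : ∀ u v, QuadraticMap.polar Q u v = 0 → QuadraticMap.polar Q v u = 0 := by
    intro u v h
    rw [polar_symm]; exact h
  have hNsim : N ≤ similarityGroup (QuadraticMap.polar Q) :=
    hNI.trans (isometryGroup_le_similarityGroup Q)
  have hHsim : H ≤ similarityGroup (QuadraticMap.polar Q) :=
    hH.trans (isometryGroup_le_similarityGroup Q)
  rcases form_clifford hf hQ.nondegenerate hrefl H N hirr hnrm hNsim hHsim with hiso |
    ⟨t, D, τ, ht, hne, hind, htop, hperm, htrans, -, hτ, horth, hpair, hcase⟩
  · -- isotypic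
    by_cases hsc : ∀ x ∈ commutantCenter N, ∃ c : F, x = c • (1 : Matrix (Fin n) (Fin n) F)
    · obtain ⟨d, e, idx, B, hNFo⟩ := tensorNF_of_isotypic (by omega) N hss hiso hsc
      have hcard : n = d * e := by
        have := Fintype.card_congr idx
        simpa using this
      have hkr : ∀ h ∈ H, ∃ (a : GL (Fin d) F) (b : GL (Fin e) F),
          ((B * h * B⁻¹ : GL (Fin n) F) : Matrix (Fin n) (Fin n) F) =
          Matrix.reindex idx.symm idx.symm
            ((a : Matrix (Fin d) (Fin d) F) ⊗ₖ (b : Matrix (Fin e) (Fin e) F)) :=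
        fun h hh => kronecker_of_normalizes N d e idx B hNFo h (fun x hx => hnrm h hh x hx)
      by_cases hd : 2 ≤ d
      · by_cases he : 2 ≤ e
        · exfalso
          apply hG
          rcases out_of_tensorNF hQ hH hirr N hNI d e hd he idx B hNFo hkr with h | h
          · exact Or.inr (Or.inr (Or.inr (Or.inr (Or.inr (Or.inr (Or.inr (Or.inl h)))))))
          · exact Or.inr (Or.inr (Or.inr (Or.inr (Or.inr (Or.inr (Or.inr (Or.inr (Or.inl h))))))))
        · have he1 : e = 1 := by
            rcases Nat.lt_or_ge e 1 with h0 | h1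
            · have : e = 0 := by omega
              subst this; omega
            · omega
          subst he1
          exact Or.inr (absIrred_of_tensorNF_one N d idx B hNFo)
      · have hd1 : d = 1 := by
          rcases Nat.lt_or_ge d 1 with h0 | h1
          · have : d = 0 := by omega
            subst this; omega
          · omega
        subst hd1
        exact Or.inl (scalar_of_tensorNF_one N e idx B hNFo)
    · exfalso
      apply hG
      push Not at hsc
      obtain ⟨x, hx, hxs⟩ := hsc
      rcases out_of_isotypic_field hQ (by omega) hH N hNI hnrm hss hiso ⟨x, hx, hxs⟩ with h | h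
      · exact Or.inr (Or.inr (Or.inr (Or.inr (Or.inr (Or.inl h)))))
      · exact Or.inr (Or.inr (Or.inr (Or.inr (Or.inr (Or.inr (Or.inl h))))))
  · exfalso
    apply hG
    rcases out_of_form_decomposition hQ hn hH hirr t D τ ht hne hind htop hperm htrans hτ horth hpair
      hcase with h | h
    · exact Or.inr (Or.inr (Or.inr (Or.inl h)))
    · exact Or.inr (Or.inr (Or.inr (Or.inr (Or.inl h))))

end Cfsg.Agent.Lib.Helper55.Oe
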