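import Mathlib
import Cfsg.Prelude.Def_GeometricClasses
import Cfsg.Agent.Lib.Helper99.AschDefs
import Cfsg.Agent.Lib.Helper13.AschPerf
import Cfsg.Agent.Lib.Helper42.AschComps
import Cfsg.Agent.Lib.Helper42.AschOSetup
import Cfsg.Agent.Lib.Helper55.Oe.Defs
import Cfsg.Agent.Lib.Helper55.Oe.Part1
import Cfsg.Agent.Lib.Helper36.OeC1
import Cfsg.Agent.Lib.Helper36.OeNaiz
import Cfsg.Agent.Lib.Helper45.OeIIComm
import Cfsg.Agent.Lib.Helper25.OeIIResidExact
import Cfsg.Agent.Lib.Helper25.OeIISubfield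
import Cfsg.Agent.Lib.Helper54.OeIIKFold

/-!
# Project ASCHOE, Part II and the core theorem

`core_oe` : a subgroup of the isometry group of a non-degenerate quadratic form on `F^n`, `n ∈ {8, 10, 12}`, satisfies
`GeoOE Q H`.
-/

set_option autoImplicit false

namespace Cfsg.Agent.Lib.Helper55.Oe

open Cfsg Cfsg.Geo Cfsg.Agent.Lib.Helper99.Asch
open scoped MatrixGroups Matrix Kronecker

variable {n : ℕ} {F : Type*} [Field F] [Fintype F]

omit [Fintype F] in
/-- an irreducible group in dimension at least two is not scalar -/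
theorem not_le_scalars_of_irreducible (hn : 2 ≤ n) {H : Subgroup (GL (Fin n) F)}
    (hirr : ActsIrreducibly (matrixSet H)) : ¬ H ≤ scalars (Fin n) F := by
  intro hsc
  -- the line spanned by the first basis vector is invariant
  set v : Fin n → F := Pi.single ⟨0, by omega⟩ 1 with hv
  have hv0 : v ≠ 0 := by
    intro h
    have := congrFun h ⟨0, by omega⟩
    simp [hv] at this
  have hinv : ∀ s ∈ matrixSet H, (Submodule.span F {v}).map (Matrix.toLin' s) ≤ Submodule.span F {v} := by
    rintro s ⟨g, hg, rfl⟩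
    obtain ⟨c, hc⟩ := (mem_scalars_iff g).1 (hsc hg)
    rintro _ ⟨w, hw, rfl⟩
    rw [Matrix.toLin'_apply]
    show (g : Matrix (Fin n) (Fin n) F) *ᵥ w ∈ _
    rw [hc, Matrix.smul_mulVec, Matrix.one_mulVec]
    exact Submodule.smul_mem _ _ hw
  rcases hirr _ hinv with h | h
  · exact hv0 ((Submodule.span_singleton_eq_bot).1 h)
  · have h1 : Module.finrank F (Submodule.span F {v}) = 1 := finrank_span_singleton hv0
    rw [h, finrank_top, Module.finrank_fin_fun] at h1
    omega

/-- ASCHOE-[PART2] -/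
theorem partII_oe {Q : (Fin n → F) → F} (hQ : IsNondegenerateQuadraticForm Q)
    (hn : n = 8 ∨ n = 10 ∨ n = 12) {H : Subgroup (GL (Fin n) F)} (hH : H ≤ isometryGroup F Q)
    (hirr : ActsIrreducibly (matrixSet H)) (hNAI : NAIq Q H) : GeoOE Q H := by
  have hn2 : 2 ≤ n := by omega
  have hHns : ¬ H ≤ scalars (Fin n) F := not_le_scalars_of_irreducible hn2 hirr
  obtain ⟨N, hN⟩ := Cfsg.Agent.Lib.Helper5.AschO.exists_isMinNrm_of_not_le H hHns
  have hNabs : ActsAbsolutelyIrreducibly (matrixSet N) :=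
    (naiz_of_naiq hH hNAI N hN.nrm hN.le_sup).resolve_left hN.not_le
  by_cases hab : CommScalar N
  · exact Or.inr (Or.inr (Or.inr (Or.inr (Or.inr (Or.inr (Or.inr (Or.inr (Or.inr (Or.inr (Or.inl
      (eight_plus_of_commScalar hQ hn hH N hN hNabs hab)))))))))))
  · obtain ⟨P, hP⟩ := exists_perfMin H N hN hab
    obtain ⟨k, Qs, hk, hC⟩ := exists_compSys H P hP
    have hPabs : ActsAbsolutelyIrreducibly (matrixSet P) :=
      (hNAI P (hP.le.trans hH) hP.nrm).resolve_left hP.not_le
    by_cases hk1 : k = 1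
    · subst hk1
      have hQP : Qs 0 = P := by
        rw [← hC.iSup_eq]
        exact (ciSup_unique (s := Qs)).symm
      have hsimple : ∀ M : Subgroup (GL (Fin n) F), M ≤ P → Nrm P M →
          M ≤ scalars (Fin n) F ∨ M = P := by
        intro M hM hnM
        have := hC.simple 0 M (hQP ▸ hM) (hQP ▸ hnM)
        rwa [hQP] at this
      rcases subfield_or_residual hQ hn2 hH P hP hPabs hsimple with h | h
      · exact Or.inr (Or.inr (Or.inr (Or.inr (Or.inr (Or.inr (Or.inr (Or.inr (Or.inr (Or.inl h)))))))))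
      · exact Or.inr (Or.inr (Or.inr (Or.inr (Or.inr (Or.inr (Or.inr (Or.inr (Or.inr (Or.inr
          (Or.inr h))))))))))
    · have hk2 : 2 ≤ k := by omega
      exact Or.inr (Or.inr (Or.inr (Or.inr (Or.inr (Or.inr (Or.inr (Or.inr (Or.inr (Or.inr (Or.inl
        (eight_plus_of_components hQ hn hH P hP hPabs hk2 Qs hC)))))))))))

/-- ASCHOE-[CORE] -/
theorem core_oe {Q : (Fin n → F) → F} (hQ : IsNondegenerateQuadraticForm Q)
    (hn : n = 8 ∨ n = 10 ∨ n = 12) {H : Subgroup (GL (Fin n) F)} (hH : H ≤ isometryGroup F Q) :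
    GeoOE Q H := by
  by_cases hirr : ActsIrreducibly (matrixSet H)
  · rcases partI_oe hQ (by omega) hH hirr with h | h
    · exact h
    · exact partII_oe hQ hn hH hirr h
  · rcases out_of_not_irreducible hQ hH hirr with h | h | h
    · exact Or.inl h
    · exact Or.inr (Or.inl h)
    · exact Or.inr (Or.inr (Or.inl h))

end Cfsg.Agent.Lib.Helper55.Oe
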