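import Mathlib
import Cfsg.Prelude.Def_GeometricClasses
import Cfsg.Agent.Lib.Helper55.Oe.Defs
import Cfsg.Agent.Lib.Helper55.Oe.Between
import Cfsg.Agent.Lib.Helper19.OePIrr
import Cfsg.Agent.Lib.Helper19.OeGPerp
import Cfsg.Agent.Lib.Helper19.OeTBlocks

/-!
# Project ASCHOE (helper55): helpers shared by the five row assemblies

* `not_omegaGL_le_subspaceStabilizer` : properness of subspace stabilisers (from [P-IRR]);
* `ne_top_of_totallySingular`, `finrank_ts_le`;
* `odd_card_of_two_ne_zero`, `not_odd_card_of_two_eq_zero`;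
* `mul_eq_of_isMDecomposition` : `t * m = n`;
* `outND_normalize` : a fixed non-degenerate subspace may be taken of dimension at most `n / 2` ([G-PERP]);
* `row_subspace`, `row_plane` : the subspace-stabiliser disjuncts of the rows.
-/

set_option autoImplicit false

namespace Cfsg.Agent.Lib.Helper55.Oe

open Cfsg Cfsg.Geo
open scoped MatrixGroups Matrix

variable {n : ℕ} {F : Type*} [Field F]

theorem mem_subspaceStabilizer_iff' (W : Submodule F (Fin n → F)) (g : GL (Fin n) F) :
    g ∈ subspaceStabilizer W ↔ ∀ v, v ∈ W ↔ (g : Matrix (Fin n) (Fin n) F) *ᵥ v ∈ W := Iff.rfl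

/-- a non-degenerate quadratic form on a non-zero space does not vanish identically -/
theorem ne_top_of_totallySingular {Q : (Fin n → F) → F} (hQ : IsNondegenerateQuadraticForm Q) (hn : 0 < n)
    (W : Submodule F (Fin n → F)) (hts : IsTotallySingularQuad Q W) : W ≠ ⊤ := by
  rintro rfl
  set v : Fin n → F := Pi.single ⟨0, hn⟩ 1 with hv
  have hv0 : v ≠ 0 := by
    intro h
    have := congrFun h ⟨0, hn⟩
    simp [hv] at this
  obtain ⟨x, hx⟩ := (hQ.nondegenerate v hv0).1
  apply hx
  simp only [QuadraticMap.polar]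
  rw [hts _ Submodule.mem_top, hts _ Submodule.mem_top, hts _ Submodule.mem_top]
  ring

theorem odd_card_of_two_ne_zero [Fintype F] (h2 : (2 : F) ≠ 0) : Odd (Fintype.card F) := by
  obtain ⟨p, hp⟩ := CharP.exists F
  haveI := hp
  haveI : Fact p.Prime := ⟨CharP.char_is_prime F p⟩
  obtain ⟨k, hk⟩ := FiniteField.card' F
  obtain ⟨k, hpr, hcard⟩ := FiniteField.card F p
  rw [hcard]
  apply Odd.pow
  rcases hpr.eq_two_or_odd' with h | h
  · exfalso
    subst h
    apply h2
    have := CharP.cast_eq_zero F 2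
    exact_mod_cast this
  · exact h

theorem not_odd_card_of_two_eq_zero [Fintype F] (h2 : (2 : F) = 0) : ¬ Odd (Fintype.card F) := by
  intro hodd
  have h : ((Fintype.card F : ℕ) : F) = 0 := Nat.cast_card_eq_zero F
  obtain ⟨k, hk⟩ := hodd
  rw [hk] at h
  push_cast at h
  rw [h2, zero_mul, zero_add] at h
  exact one_ne_zero h

theorem two_ne_zero_of_odd_card [Fintype F] (h : Odd (Fintype.card F)) : (2 : F) ≠ 0 :=
  fun h2 => not_odd_card_of_two_eq_zero h2 h

/-- `t * m = n` for an `m`-decomposition into `t` subspaces -/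
theorem mul_eq_of_isMDecomposition {t m : ℕ} {D : Fin t → Submodule F (Fin n → F)}
    (hD : IsMDecomposition m D) : t * m = n := by
  classical
  have h := Cfsg.Agent.Lib.Helper19.OeTBlocks.finrank_iSup_of_indep D hD.indep
  rw [hD.iSup_eq_top, finrank_top, Module.finrank_fin_fun] at h
  rw [h]
  simp [hD.finrank_eq]

variable [Fintype F]

/-- properness of subspace stabilisers, from [P-IRR] -/
theorem not_omegaGL_le_subspaceStabilizer {Q : (Fin n → F) → F} (hQ : IsNondegenerateQuadraticForm Q)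
    (hn : 7 ≤ n) (W : Submodule F (Fin n → F)) (hW0 : W ≠ ⊥) (hW1 : W ≠ ⊤) :
    ¬ omegaGL Q ≤ subspaceStabilizer W := by
  intro hle
  have hirr := omegaGL_irreducible hQ hn
  rcases hirr W (by
    rintro s ⟨g, hg, rfl⟩
    rintro _ ⟨w, hw, rfl⟩
    rw [Matrix.toLin'_apply]
    exact ((mem_subspaceStabilizer_iff' W g).1 (hle hg) w).1 hw) with h | h
  · exact hW0 h
  · exact hW1 h

/-- a maximal subgroup of `Ω` fixing a proper non-zero subspace is its full stabiliser in `Ω` -/
theorem row_subspace {Q : (Fin n → F) → F} (hQ : IsNondegenerateQuadraticForm Q) (hn : 7 ≤ n)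
    {H : Subgroup (GL (Fin n) F)} (hH : IsMaximalIn (omegaGL Q) H) (W : Submodule F (Fin n → F))
    (hW0 : W ≠ ⊥) (hW1 : W ≠ ⊤) (hle : H ≤ subspaceStabilizer W) :
    H = subspaceStabilizer W ⊓ omegaGL Q :=
  eq_inf_of_isMaximalIn hH hle (not_omegaGL_le_subspaceStabilizer hQ hn W hW0 hW1)

/-- the fixed non-degenerate subspace may be taken of dimension at most `n / 2` -/
theorem outND_normalize {Q : (Fin n → F) → F} (hQ : IsNondegenerateQuadraticForm Q)
    {H : Subgroup (GL (Fin n) F)} (hI : H ≤ isometryGroup F Q) (h : OutND Q H) :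
    ∃ W : Submodule F (Fin n → F), W ≠ ⊥ ∧ W ≠ ⊤ ∧ IsNondegenerateOn (QuadraticMap.polar Q) W ∧
      2 * Module.finrank F W ≤ n ∧ H ≤ subspaceStabilizer W ∧
      ∃ W' : Submodule F (Fin n → F), IsNondegenerateOn (QuadraticMap.polar Q) W' ∧
        AreOrthogonalFor (QuadraticMap.polar Q) W W' ∧ W ⊓ W' = ⊥ ∧ W ⊔ W' = ⊤ ∧
        Module.finrank F W + Module.finrank F W' = n ∧ H ≤ subspaceStabilizer W' := by
  obtain ⟨W, hW0, hW1, hnd, hle⟩ := h
  obtain ⟨W', hnd', horth, hinf, hsup, hdim, -, hstab⟩ := exists_perp_of_nondegenerate hQ W hnd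
  have hle' : H ≤ subspaceStabilizer W' := fun g hg => hstab ⟨hle hg, hI hg⟩
  have hsymm : ∀ u v, QuadraticMap.polar Q u v = QuadraticMap.polar Q v u :=
    fun u v => QuadraticMap.polar_comm Q u v
  by_cases hk : 2 * Module.finrank F W ≤ n
  · exact ⟨W, hW0, hW1, hnd, hk, hle, W', hnd', horth, hinf, hsup, hdim, hle'⟩
  · have hW'0 : W' ≠ ⊥ := by
      rintro rfl
      rw [sup_bot_eq] at hsup
      exact hW1 hsup
    have hW'1 : W' ≠ ⊤ := by
      rintro rfl
      rw [inf_top_eq] at hinf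
      exact hW0 hinf
    refine ⟨W', hW'0, hW'1, hnd', by omega, hle', W, hnd, ?_, ?_, ?_, by omega, hle⟩
    · intro u hu v hv
      rw [hsymm]; exact horth v hv u hu
    · rw [inf_comm]; exact hinf
    · rw [sup_comm]; exact hsup

/-- the two plane disjuncts of the rows -/
theorem row_plane {Q : (Fin n → F) → F} (hQ : IsNondegenerateQuadraticForm Q) (hn : 7 ≤ n)
    {H : Subgroup (GL (Fin n) F)} (hH : IsMaximalIn (omegaGL Q) H) (W : Submodule F (Fin n → F))
    (hdim : Module.finrank F W = 2) (hnd : IsNondegenerateOn (QuadraticMap.polar Q) W)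
    (hle : H ≤ subspaceStabilizer W) :
    (¬ IsPlusTypeOn Q W ∧ H = subspaceStabilizer W ⊓ omegaGL Q) ∨
    (4 ≤ Fintype.card F ∧ IsPlusTypeOn Q W ∧ H = subspaceStabilizer W ⊓ omegaGL Q) := by
  have hW0 : W ≠ ⊥ := by
    rintro rfl
    rw [finrank_bot] at hdim
    omega
  have hW1 : W ≠ ⊤ := by
    rintro rfl
    rw [finrank_top, Module.finrank_fin_fun] at hdim
    omega
  have heq := row_subspace hQ hn hH W hW0 hW1 hle
  by_cases hp : IsPlusTypeOn Q W
  · by_cases hq : 4 ≤ Fintype.card F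
    · exact Or.inr ⟨hq, hp, heq⟩
    · exact (false_of_exists_between hH hle
        (exists_between_plus_plane hQ (by omega) (by omega) W hdim hnd hp)).elim
  · exact Or.inl ⟨hp, heq⟩

end Cfsg.Agent.Lib.Helper55.Oe
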